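import Groth.Agent.H8Props.FlatLocus.Module
import Groth.Agent.H29Fitt.FP
import Groth.Prelude.Def_FlatMod2

/-!
# The flat locus of a finitely presented quasi-coherent module
-/

set_option autoImplicit false
set_option linter.style.haveILetI false
universe u

open CategoryTheory AlgebraicGeometry TopologicalSpace

namespace Groth.Agent.H8Props.FlatLocus

variable {X Y : Scheme.{u}}

theorem isFlatOverAt_iff_localizedModule (f : X ⟶ Y) (F : X.Modules) (hF : Coh.IsQCoh F)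
    {V : Y.Opens} (hV : IsAffineOpen V) {U : X.Opens} (hU : IsAffineOpen U) (hUV : U ≤ f ⁻¹ᵁ V)
    (x : U) :
    letI := Module.compHom Γ(F, U) (f.appLE V U hUV).hom
    letI := (f.appLE V U hUV).hom.toAlgebra
    haveI : IsScalarTower Γ(Y, V) Γ(X, U) Γ(F, U) := .of_algebraMap_smul fun _ _ => rfl
    FlatMod.IsFlatOverAt f F x.1 ↔
      Module.Flat Γ(Y, V) (LocalizedModule (hU.primeIdealOf x).asIdeal.primeCompl Γ(F, U)) := by
  letI := Module.compHom Γ(F, U) (f.appLE V U hUV).hom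
  letI := (f.appLE V U hUV).hom.toAlgebra
  haveI : IsScalarTower Γ(Y, V) Γ(X, U) Γ(F, U) := .of_algebraMap_smul fun _ _ => rfl
  letI := TopCat.Presheaf.algebra_section_stalk X.presheaf x
  letI := Module.compHom (F.presheaf.stalk x.1) (algebraMap Γ(X, U) (X.presheaf.stalk x.1))
  letI := Module.compHom (F.presheaf.stalk x.1)
    ((algebraMap Γ(X, U) (X.presheaf.stalk x.1)).comp (f.appLE V U hUV).hom)
  haveI : IsScalarTower Γ(Y, V) Γ(X, U) (F.presheaf.stalk x.1) := .of_algebraMap_smul fun _ _ => rfl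
  let y : V := ⟨f x.1, hUV x.2⟩
  letI : Algebra Γ(Y, V) (Y.presheaf.stalk (f x.1)) := (Y.presheaf.germ V (f x.1) y.2).hom.toAlgebra
  haveI : IsLocalization.AtPrime (Y.presheaf.stalk (f x.1)) (hV.primeIdealOf y).asIdeal :=
    hV.isLocalization_stalk y
  letI := FlatMod.moduleStalkOver f F x.1
  haveI : IsScalarTower Γ(Y, V) (Y.presheaf.stalk (f x.1)) (F.presheaf.stalk x.1) :=
    .of_algebraMap_smul fun a m => by
      show (f.stalkMap x.1).hom ((Y.presheaf.germ V (f x.1) y.2).hom a) • m =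
        (X.presheaf.germ U x.1 x.2).hom ((f.appLE V U hUV).hom a) • m
      congr 1
      rw [← CommRingCat.comp_apply, ← CommRingCat.comp_apply, Scheme.Hom.germ_stalkMap,
        Scheme.Hom.appLE, Category.assoc, X.presheaf.germ_res]
  refine (Module.flat_iff_of_isLocalization (Y.presheaf.stalk (f x.1))
    (hV.primeIdealOf y).asIdeal.primeCompl (F.presheaf.stalk x.1)).trans ?_
  haveI := H29Fitt.isLocalizedModule_germLin F hF hU x
  exact Module.Flat.equiv_iff ((IsLocalizedModule.iso (hU.primeIdealOf x).asIdeal.primeCompl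
    (H29Fitt.germLin F x)).restrictScalars Γ(Y, V)).symm

/-- The flat locus of a finitely presented module is open. -/
theorem isOpen_setOf_isFlatOverAt (f : X ⟶ Y) [LocallyOfFinitePresentation f] (F : X.Modules)
    (hF : CohB1.IsFP F) : IsOpen {x : X | FlatMod.IsFlatOverAt f F x} := by
  rw [isOpen_iff_forall_mem_open]
  intro x hx
  obtain ⟨_, ⟨V, hV, rfl⟩, hxV, -⟩ :=
    Y.isBasis_affineOpens.exists_subset_of_mem_open (Set.mem_univ (f x)) isOpen_univ
  obtain ⟨_, ⟨U₀, hU₀, rfl⟩, hxU₀, hU₀le⟩ :=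
    X.isBasis_affineOpens.exists_subset_of_mem_open (show x ∈ (f ⁻¹ᵁ V : Set X) from hxV) (f ⁻¹ᵁ V).2
  obtain ⟨t, hxU, hfp⟩ := H29Fitt.exists_basicOpen_finitePresentation F hF hU₀ ⟨x, hxU₀⟩
  set U := X.basicOpen t
  have hU : IsAffineOpen U := hU₀.basicOpen t
  have hUV : U ≤ f ⁻¹ᵁ V := (X.basicOpen_le t).trans hU₀le
  letI := Module.compHom Γ(F, U) (f.appLE V U hUV).hom
  letI := (f.appLE V U hUV).hom.toAlgebra
  haveI : IsScalarTower Γ(Y, V) Γ(X, U) Γ(F, U) := .of_algebraMap_smul fun _ _ => rfl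
  haveI : Algebra.FinitePresentation Γ(Y, V) Γ(X, U) :=
    HasRingHomProperty.appLE @LocallyOfFinitePresentation f ‹_› ⟨V, hV⟩ ⟨U, hU⟩ hUV
  haveI := hU.isOpenImmersion_fromSpec
  refine ⟨hU.fromSpec '' {q : PrimeSpectrum Γ(X, U) |
      Module.Flat Γ(Y, V) (LocalizedModule q.asIdeal.primeCompl Γ(F, U))}, ?_,
    hU.fromSpec.isOpenEmbedding.isOpenMap _ (isOpen_setOf_flat_localizedModule _ _ _),
    hU.primeIdealOf ⟨x, hxU⟩, ?_, hU.fromSpec_primeIdealOf _⟩
  · rintro _ ⟨q, hq, rfl⟩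
    have hmem : hU.fromSpec q ∈ U := hU.range_fromSpec.subset ⟨q, rfl⟩
    have e : hU.primeIdealOf ⟨hU.fromSpec q, hmem⟩ = q :=
      hU.fromSpec.isOpenEmbedding.injective (hU.fromSpec_primeIdealOf _)
    rw [← e] at hq
    exact (isFlatOverAt_iff_localizedModule f F (H29Fitt.isQCoh_of_isFP F hF) hV hU hUV
      ⟨hU.fromSpec q, hmem⟩).mpr hq
  · exact (isFlatOverAt_iff_localizedModule f F (H29Fitt.isQCoh_of_isFP F hF) hV hU hUV
      ⟨x, hxU⟩).mp hx

end Groth.Agent.H8Props.FlatLocus
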