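import Groth.Agent.H8Props.FlatLocus.Sheaf
import Groth.Agent.H06EGA11.Loc
import Groth.Agent.H10Coh.BaseChange
import Groth.Agent.H29Blow.PointsOfAffine
import Groth.Prelude.Def_Coh

/-!
# Flatness over a base on sections; affine direct images
-/

set_option autoImplicit false
set_option linter.style.haveILetI false

universe u

open CategoryTheory Limits AlgebraicGeometry TopologicalSpace Opposite

namespace Groth.Agent.H8Props.FlatLocus

variable {X Y S : Scheme.{u}}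

/-- Flatness at all points of an affine open is flatness of the sections. -/
theorem flat_sections_over_iff (f : X ⟶ Y) (F : X.Modules) (hF : Coh.IsQCoh F)
    {V : Y.Opens} (hV : IsAffineOpen V) {U : X.Opens} (hU : IsAffineOpen U) (hUV : U ≤ f ⁻¹ᵁ V) :
    letI := Module.compHom Γ(F, U) (f.appLE V U hUV).hom
    Module.Flat Γ(Y, V) Γ(F, U) ↔ ∀ x : U, FlatMod.IsFlatOverAt f F x.1 := by
  letI := Module.compHom Γ(F, U) (f.appLE V U hUV).hom
  letI := (f.appLE V U hUV).hom.toAlgebra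
  haveI : IsScalarTower Γ(Y, V) Γ(X, U) Γ(F, U) := .of_algebraMap_smul fun _ _ => rfl
  constructor
  · intro h x
    refine (isFlatOverAt_iff_localizedModule f F hF hV hU hUV x).2
      (H06EGA11.flat_localizedModule _ fun J z hz => ⟨1, one_mem _, ?_⟩)
    rw [one_smul]
    exact (injective_iff_map_eq_zero _).1
      (Module.Flat.lTensor_preserves_injective_linearMap _ J.injective_subtype) z hz
  · intro h
    refine Module.flat_of_isLocalized_maximal (S := Γ(X, U)) (R := Γ(Y, V)) Γ(F, U)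
      (fun P => LocalizedModule P.primeCompl Γ(F, U))
      (fun P _ => LocalizedModule.mkLinearMap _ _) fun P hP => ?_
    obtain ⟨x, hx⟩ := H29Blow.exists_primeIdealOf_eq hU (⟨P, hP.isPrime⟩ : PrimeSpectrum Γ(X, U))
    obtain rfl : P = (hU.primeIdealOf x).asIdeal := (congrArg PrimeSpectrum.asIdeal hx).symm
    exact (isFlatOverAt_iff_localizedModule f F hF hV hU hUV x).1 (h x)

/-- Flatness over the base and affine direct images. -/
theorem isFlatOver_push_iff (f : X ⟶ Y) [IsAffineHom f] (q : Y ⟶ S) (F : X.Modules)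
    (hF : Coh.IsQCoh F) :
    FlatMod.IsFlatOver (f ≫ q) F ↔ FlatMod.IsFlatOver q ((Coh.push f).obj F) := by
  have hG : Coh.IsQCoh ((Coh.push f).obj F) :=
    @H10Coh.isQuasicoherent_pushforward_of_isAffineHom _ _ f _ F hF
  have chart : ∀ y : Y, ∃ (W : Y.Opens) (V : S.Opens), IsAffineOpen W ∧ IsAffineOpen V ∧ y ∈ W ∧
      W ≤ q ⁻¹ᵁ V := fun y => by
    obtain ⟨_, ⟨V, hV, rfl⟩, hyV, -⟩ :=
      S.isBasis_affineOpens.exists_subset_of_mem_open (Set.mem_univ (q y)) isOpen_univ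
    obtain ⟨_, ⟨W, hW, rfl⟩, hyW, hWV⟩ :=
      Y.isBasis_affineOpens.exists_subset_of_mem_open hyV (q ⁻¹ᵁ V).isOpen
    exact ⟨W, V, hW, hV, hyW, hWV⟩
  have key : ∀ {W : Y.Opens} {V : S.Opens}, IsAffineOpen W → IsAffineOpen V → W ≤ q ⁻¹ᵁ V →
      ((∀ x : (f ⁻¹ᵁ W : X.Opens), FlatMod.IsFlatOverAt (f ≫ q) F x.1) ↔
        ∀ y : W, FlatMod.IsFlatOverAt q ((Coh.push f).obj F) y.1) := by
    intro W V hW hV hWV
    have h : f ⁻¹ᵁ W ≤ (f ≫ q) ⁻¹ᵁ V := f.preimage_mono hWV
    rw [← flat_sections_over_iff (f ≫ q) F hF hV (hW.preimage f) h,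
      ← flat_sections_over_iff q _ hG hV hW hWV]
    have e : Module.compHom Γ(F, f ⁻¹ᵁ W) ((f ≫ q).appLE V (f ⁻¹ᵁ W) h).hom =
        Module.compHom Γ((Coh.push f).obj F, W) (q.appLE V W hWV).hom := by
      refine Module.ext' _ _ fun r (m : Γ(F, f ⁻¹ᵁ W)) => ?_
      show ((f ≫ q).appLE V (f ⁻¹ᵁ W) h).hom r • m = (f.app W).hom ((q.appLE V W hWV).hom r) • m
      rw [show (f ≫ q).appLE V (f ⁻¹ᵁ W) h = q.appLE V W hWV ≫ f.app W by
        rw [f.app_eq_appLE, Scheme.Hom.appLE_comp_appLE]]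
      rfl
    rw [e]
    rfl
  constructor
  · intro H y
    obtain ⟨W, V, hW, hV, hyW, hWV⟩ := chart y
    exact (key hW hV hWV).1 (fun x => H x.1) ⟨y, hyW⟩
  · intro H x
    obtain ⟨W, V, hW, hV, hyW, hWV⟩ := chart (f x)
    exact (key hW hV hWV).2 (fun y => H y.1) ⟨x, hyW⟩

end Groth.Agent.H8Props.FlatLocus
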