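import Groth.Agent.H8Props.FlatLocus.Scheme
import Mathlib.Algebra.TrivSqZeroExt.Basic
import Mathlib.Algebra.Module.FinitePresentation
import Mathlib.RingTheory.Finiteness.ModuleFinitePresentation
import Mathlib.Algebra.Module.LocalizedModule.IsLocalization

/-!
# Openness of the flat locus of a finitely presented module
-/

set_option autoImplicit false
set_option linter.style.haveILetI false
universe u

open TrivSqZeroExt

namespace Groth.Agent.H8Props.FlatLocus

theorem flat_prod (R M N : Type u) [CommRing R] [AddCommGroup M] [Module R M] [AddCommGroup N]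
    [Module R N] [Module.Flat R M] [Module.Flat R N] : Module.Flat R (M × N) := by
  rw [Module.Flat.iff_rTensor_injective']
  intro I
  let e := TensorProduct.prodRight R R I M N
  let e' := TensorProduct.prodRight R R R M N
  have key : ∀ z, e' (I.subtype.rTensor (M × N) z) =
      (I.subtype.rTensor M (e z).1, I.subtype.rTensor N (e z).2) := fun z => by
    induction z with
    | zero => simp [Prod.zero_eq_mk]
    | tmul a b => simp [e, e']
    | add a b ha hb => simp only [map_add, ha, hb, Prod.fst_add, Prod.snd_add, Prod.mk_add_mk]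
  intro a b h
  apply e.injective
  have h' := congrArg e' h
  rw [key, key, Prod.mk.injEq] at h'
  exact Prod.ext (Module.Flat.rTensor_preserves_injective_linearMap I.subtype Subtype.val_injective h'.1)
    (Module.Flat.rTensor_preserves_injective_linearMap I.subtype Subtype.val_injective h'.2)

section Square

variable {R P : Type u} [CommRing R] [CommRing P] [Algebra R P] {M : Type u} [AddCommGroup M]
  [Module P M]

theorem finitePresentation_trivSqZeroExt [Algebra.FinitePresentation R P]
    [Module.FinitePresentation P M] [Module Pᵐᵒᵖ M] [IsCentralScalar P M]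
    [Module R M] [IsScalarTower R P M] [IsScalarTower R Pᵐᵒᵖ M] :
    Algebra.FinitePresentation R (TrivSqZeroExt P M) := by
  haveI : Module.FinitePresentation P (TrivSqZeroExt P M) :=
    (Module.FinitePresentation.of_equiv (LinearEquiv.refl P (P × M)) : Module.FinitePresentation P (P × M))
  haveI : Algebra.FinitePresentation P (TrivSqZeroExt P M) :=
    Algebra.FinitePresentation.of_finitePresentation P _
  exact Algebra.FinitePresentation.trans R P (TrivSqZeroExt P M)

theorem exists_algHom_map {P' M' : Type u} [CommRing P'] [Algebra R P'] [AddCommGroup M'] [Module P' M']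
    [Module P'ᵐᵒᵖ M'] [IsCentralScalar P' M'] [Module R M'] [IsScalarTower R P' M']
    [IsScalarTower R P'ᵐᵒᵖ M'] [Module Pᵐᵒᵖ M] [IsCentralScalar P M]
    [Module R M] [IsScalarTower R P M] [IsScalarTower R Pᵐᵒᵖ M]
    (ι : P →ₐ[R] P') (j : M →+ M') (hj : ∀ (p : P) (m : M), j (p • m) = ι p • j m) :
    ∃ Λ : TrivSqZeroExt P M →ₐ[R] TrivSqZeroExt P' M',
      ∀ x, (Λ x).fst = ι x.fst ∧ (Λ x).snd = j x.snd := by
  refine ⟨{ toFun := fun x => inl (ι x.fst) + inr (j x.snd)
            map_one' := by ext <;> simp
            map_mul' := fun x y => ?_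
            map_zero' := by ext <;> simp
            map_add' := fun x y => by ext <;> simp
            commutes' := fun r => ?_ }, fun x => ⟨by simp, by simp⟩⟩
  · ext
    · simp
    · simp only [snd_add, snd_inl, snd_inr, zero_add, snd_mul, fst_add, fst_inl, fst_inr,
        add_zero, map_add, op_smul_eq_smul, hj]
  · ext
    · simp [algebraMap_eq_inl']
    · simp [algebraMap_eq_inl']

end Square

/-- Flatness of a localised module, in terms of a presentation of the square zero extension. -/
theorem flat_iff_flatAt_trivSqZeroExt {R P : Type u} [CommRing R] [CommRing P] [Algebra R P]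
    [Module.Flat R P] {M : Type u} [AddCommGroup M] [Module R M] [Module P M] [IsScalarTower R P M]
    [Module Pᵐᵒᵖ M] [IsCentralScalar P M] [IsScalarTower R Pᵐᵒᵖ M] {n : ℕ}
    (φ : MvPolynomial (Fin n) R →ₐ[R] TrivSqZeroExt P M) (hφ : Function.Surjective φ)
    (N : Ideal (MvPolynomial (Fin n) R)) (hG : N = RingHom.ker φ.toRingHom) (Q : PrimeSpectrum P)
    (PQ : Type u) [CommRing PQ] [Algebra P PQ] [Algebra R PQ] [IsScalarTower R P PQ]
    [IsLocalization Q.asIdeal.primeCompl PQ] (MQ : Type u) [AddCommGroup MQ] [Module P MQ]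
    [Module PQ MQ] [IsScalarTower P PQ MQ] [Module R MQ] [IsScalarTower R PQ MQ]
    [Module PQᵐᵒᵖ MQ] [IsCentralScalar PQ MQ] [IsScalarTower R PQᵐᵒᵖ MQ]
    (j : M →ₗ[P] MQ) [IsLocalizedModule Q.asIdeal.primeCompl j] :
    Module.Flat R MQ ↔
      FlatAt N (Q.asIdeal.comap ((TrivSqZeroExt.fstHom P P M).toRingHom.comp φ.toRingHom)) := by
  let π : MvPolynomial (Fin n) R →+* P := (TrivSqZeroExt.fstHom P P M).toRingHom.comp φ.toRingHom
  obtain ⟨Λ, hΛ⟩ := exists_algHom_map (IsScalarTower.toAlgHom R P PQ) j.toAddMonoidHom
    (fun p m => (map_smul j p m).trans (algebraMap_smul PQ p (j m)).symm)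
  have hu : ∀ t : TrivSqZeroExt P M, t.fst ∉ Q.asIdeal → IsUnit (Λ t) := fun t ht => by
    rw [TrivSqZeroExt.isUnit_iff_isUnit_fst, (hΛ t).1, IsScalarTower.coe_toAlgHom']
    exact IsLocalization.map_units (M := Q.asIdeal.primeCompl) PQ ⟨_, ht⟩
  refine Iff.trans ?_ (flatAt_iff (Λ.comp φ) N (Q.asIdeal.comap π)
    (fun s hs => hu _ hs) (fun l => ?_) (fun p => ?_)).symm
  · constructor
    · intro _
      haveI : Module.Flat P PQ := IsLocalization.flat PQ Q.asIdeal.primeCompl
      haveI : Module.Flat R PQ := Module.Flat.trans R P PQ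
      haveI : Module.Flat R (PQ × MQ) := flat_prod R PQ MQ
      exact Module.Flat.of_linearEquiv (M := PQ × MQ)
        ({ toFun := fun x => (x.fst, x.snd)
           invFun := fun x => inl x.1 + inr x.2
           map_add' := fun _ _ => rfl
           map_smul' := fun _ _ => rfl
           left_inv := fun x => inl_fst_add_inr_snd_eq x
           right_inv := fun x => by simp } : TrivSqZeroExt PQ MQ ≃ₗ[R] PQ × MQ)
    · intro _
      exact Module.Flat.of_retract (M := TrivSqZeroExt PQ MQ) ((inrHom PQ MQ).restrictScalars R)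
        ((sndHom PQ MQ).restrictScalars R) (LinearMap.ext fun m => by simp)
  · obtain ⟨⟨a, s⟩, has⟩ := IsLocalization.surj Q.asIdeal.primeCompl l.fst
    obtain ⟨⟨m, t⟩, hmt⟩ := IsLocalizedModule.surj Q.asIdeal.primeCompl j l.snd
    obtain ⟨p, hp⟩ := hφ (inl ((t : P) * a) + inr ((s : P) • m))
    obtain ⟨w, hw⟩ := hφ (inl ((t : P) * s))
    refine ⟨w, fun h => ?_, p, ?_⟩
    · have h' : ((t : P) * s) ∈ Q.asIdeal := by
        have : π w = (t : P) * s := by
          show (φ w).fst = _
          rw [hw, fst_inl]
        exact this ▸ h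
      exact (Q.isPrime.mem_or_mem h').elim t.2 s.2
    · show Λ (φ w) * l = Λ (φ p)
      rw [hw, hp]
      ext
      · simp only [fst_mul, (hΛ _).1, fst_add, fst_inl, fst_inr, add_zero,
          IsScalarTower.coe_toAlgHom', map_mul, ← has]
        ring
      · simp only [snd_mul, (hΛ _).1, (hΛ _).2, snd_add, snd_inl, snd_inr, zero_add,
          fst_inl, map_zero, smul_zero, add_zero, IsScalarTower.coe_toAlgHom', LinearMap.toAddMonoidHom_coe,
          map_smul, algebraMap_smul]
        rw [← hmt, Submonoid.smul_def, smul_smul, mul_comm]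
  · show Λ (φ p) = 0 ↔ _
    constructor
    · intro h
      have h1 : algebraMap P PQ (φ p).fst = 0 := by
        simpa [(hΛ _).1] using congrArg TrivSqZeroExt.fst h
      have h2 : j (φ p).snd = 0 := by
        simpa [(hΛ _).2] using congrArg TrivSqZeroExt.snd h
      obtain ⟨u, hu1⟩ := (IsLocalization.map_eq_zero_iff Q.asIdeal.primeCompl PQ _).mp h1
      obtain ⟨v, hv1⟩ := (IsLocalizedModule.eq_zero_iff Q.asIdeal.primeCompl j).mp h2
      obtain ⟨w, hw⟩ := hφ (inl ((u : P) * v))
      refine ⟨w, fun h => ?_, ?_⟩
      · have h' : ((u : P) * v) ∈ Q.asIdeal := by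
          have : π w = (u : P) * v := by
            show (φ w).fst = _
            rw [hw, fst_inl]
          exact this ▸ h
        exact (Q.isPrime.mem_or_mem h').elim u.2 v.2
      · rw [hG]
        show φ (w * p) = 0
        rw [map_mul, hw]
        ext
        · simp [mul_assoc, mul_left_comm _ (v : P), hu1]
        · simp [mul_smul, show (v : P) • (φ p).snd = 0 from hv1]
    · rintro ⟨s, hs, hsp⟩
      have h1 : φ (s * p) = 0 := hG.le hsp
      refine (hu (φ s) hs).mul_left_cancel ?_
      rw [← map_mul, ← map_mul, h1, map_zero, mul_zero]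

/-- The flat locus in `Spec P` of a finitely presented module, `P` polynomial. -/
theorem isOpen_setOf_flat_localizedModule_free (R P : Type u) [CommRing R] [CommRing P] [Algebra R P]
    [Algebra.FinitePresentation R P] [Module.Flat R P] (M : Type u) [AddCommGroup M] [Module R M]
    [Module P M] [IsScalarTower R P M] [Module.FinitePresentation P M] :
    IsOpen {Q : PrimeSpectrum P | Module.Flat R (LocalizedModule Q.asIdeal.primeCompl M)} := by
  letI : Module Pᵐᵒᵖ M := Module.compHom M ((RingHom.id P).fromOpposite mul_comm)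
  haveI : IsCentralScalar P M := ⟨fun _ _ => rfl⟩
  haveI : IsScalarTower R Pᵐᵒᵖ M := ⟨fun r p m => smul_assoc r p.unop m⟩
  haveI : Algebra.FinitePresentation R (TrivSqZeroExt P M) := finitePresentation_trivSqZeroExt
  obtain ⟨n, φ, hφ, ⟨G, hG⟩⟩ := Algebra.FinitePresentation.out (R := R) (A := (TrivSqZeroExt P M))
  let π : MvPolynomial (Fin n) R →+* P := (TrivSqZeroExt.fstHom P P M).toRingHom.comp φ.toRingHom
  have e : {Q : PrimeSpectrum P | Module.Flat R (LocalizedModule Q.asIdeal.primeCompl M)} =
      PrimeSpectrum.comap π ⁻¹' {Q | FlatAt (Ideal.span (G : Set _)) Q.asIdeal} := by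
    refine Set.ext fun Q => ?_
    let PQ := Localization.AtPrime Q.asIdeal
    let MQ := LocalizedModule Q.asIdeal.primeCompl M
    letI : Module PQᵐᵒᵖ MQ := Module.compHom MQ ((RingHom.id PQ).fromOpposite mul_comm)
    haveI : IsCentralScalar PQ MQ := ⟨fun _ _ => rfl⟩
    haveI : IsScalarTower R PQ MQ := ⟨fun r p m => by
      rw [← IsScalarTower.algebraMap_smul P r (p • m), ← IsScalarTower.algebraMap_smul P r p,
        smul_assoc]⟩
    haveI : IsScalarTower R PQᵐᵒᵖ MQ := ⟨fun r p m => smul_assoc r p.unop m⟩
    exact flat_iff_flatAt_trivSqZeroExt φ hφ _ hG Q PQ MQ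
      (LocalizedModule.mkLinearMap Q.asIdeal.primeCompl M)
  rw [e]
  exact (isOpen_setOf_flatAt G).preimage (PrimeSpectrum.continuous_comap π)

/-- The flat locus of a finitely presented module over a finitely presented algebra is open. -/
theorem isOpen_setOf_flat_localizedModule (R S M : Type u) [CommRing R] [CommRing S] [Algebra R S]
    [Algebra.FinitePresentation R S] [AddCommGroup M] [Module S M] [Module R M] [IsScalarTower R S M]
    [Module.FinitePresentation S M] :
    IsOpen {q : PrimeSpectrum S | Module.Flat R (LocalizedModule q.asIdeal.primeCompl M)} := by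
  obtain ⟨n, φ, hφ, hk⟩ := Algebra.FinitePresentation.out (R := R) (A := S)
  letI : Algebra (MvPolynomial (Fin n) R) S := φ.toRingHom.toAlgebra
  letI : Module (MvPolynomial (Fin n) R) M := Module.compHom M φ.toRingHom
  haveI : IsScalarTower R (MvPolynomial (Fin n) R) M := ⟨fun r p m => by
    show φ (r • p) • m = r • φ p • m
    rw [map_smul, smul_assoc]⟩
  haveI : IsScalarTower (MvPolynomial (Fin n) R) S M := ⟨fun p s m => mul_smul (φ p) s m⟩
  haveI : Module.FinitePresentation (MvPolynomial (Fin n) R) S :=
    Module.finitePresentation_of_surjective (Algebra.linearMap _ S) hφ hk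
  haveI : Module.FinitePresentation (MvPolynomial (Fin n) R) M :=
    Module.FinitePresentation.trans (MvPolynomial (Fin n) R) M S
  have e : {q : PrimeSpectrum S | Module.Flat R (LocalizedModule q.asIdeal.primeCompl M)} =
      PrimeSpectrum.comap φ.toRingHom ⁻¹'
        {Q | Module.Flat R (LocalizedModule Q.asIdeal.primeCompl M)} := by
    refine Set.ext fun q => ?_
    let Q := q.asIdeal.comap φ.toRingHom
    let g : M →ₗ[MvPolynomial (Fin n) R] LocalizedModule q.asIdeal.primeCompl M :=
      (LocalizedModule.mkLinearMap q.asIdeal.primeCompl M).restrictScalars _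
    haveI : IsLocalizedModule Q.primeCompl g :=
      { map_units := fun p => by
          rw [Module.End.isUnit_iff]
          have := (Module.End.isUnit_iff _).mp (IsLocalizedModule.map_units
            (LocalizedModule.mkLinearMap q.asIdeal.primeCompl M) (⟨φ p, p.2⟩ : q.asIdeal.primeCompl))
          convert this using 1
          funext z
          exact (algebraMap_smul S (p : MvPolynomial (Fin n) R) z).symm
        surj := fun z => by
          obtain ⟨⟨m, s⟩, hs⟩ := IsLocalizedModule.surj q.asIdeal.primeCompl
            (LocalizedModule.mkLinearMap q.asIdeal.primeCompl M) z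
          obtain ⟨p, hp⟩ := hφ s
          refine ⟨⟨m, ⟨p, fun h => s.2 (hp ▸ h)⟩⟩, ?_⟩
          show p • z = _
          calc p • z = φ p • z := (algebraMap_smul S p z).symm
            _ = (s : S) • z := congrArg (· • z) hp
            _ = _ := hs
        exists_of_eq := fun {x₁ x₂} h => by
          obtain ⟨s, hs⟩ := (IsLocalizedModule.eq_iff_exists q.asIdeal.primeCompl
            (LocalizedModule.mkLinearMap q.asIdeal.primeCompl M)).mp h
          obtain ⟨p, hp⟩ := hφ s
          refine ⟨⟨p, fun h => s.2 (hp ▸ h)⟩, ?_⟩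
          show φ p • x₁ = φ p • x₂
          rw [hp]
          exact hs }
    exact Module.Flat.equiv_iff
      ((IsLocalizedModule.iso Q.primeCompl g).restrictScalars R).symm
  rw [e]
  exact (isOpen_setOf_flat_localizedModule_free R (MvPolynomial (Fin n) R) M).preimage
    (PrimeSpectrum.continuous_comap φ.toRingHom)

end Groth.Agent.H8Props.FlatLocus
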