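import Groth.Agent.H8Props.FlatLocus.Stage
import Groth.Agent.H17.LocusBC
import Mathlib.AlgebraicGeometry.Morphisms.FinitePresentation
import Mathlib.RingTheory.Flat.Localization
import Mathlib.RingTheory.RingHom.Flat

/-!
# Openness of the flat locus of a morphism locally of finite presentation
-/

set_option autoImplicit false
set_option linter.style.haveILetI false
universe u

open CategoryTheory AlgebraicGeometry

namespace Groth.Agent.H8Props.FlatLocus

theorem flat_stalkMap_Spec_iff {R A : Type u} [CommRing R] [CommRing A] [Algebra R A]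
    (q : PrimeSpectrum A) :
    ((Spec.map (CommRingCat.ofHom (algebraMap R A))).stalkMap q).hom.Flat ↔
      Module.Flat R (Localization.AtPrime q.asIdeal) := by
  refine (RingHom.Flat.respectsIso.arrow_mk_iso_iff
    (Scheme.arrowStalkMapSpecIso (CommRingCat.ofHom (algebraMap R A)) q)).trans ?_
  let p := (q.comap (algebraMap R A)).asIdeal
  letI : Algebra (Localization.AtPrime p) (Localization.AtPrime q.asIdeal) :=
    (Localization.localRingHom p q.asIdeal (algebraMap R A) rfl).toAlgebra
  haveI : IsScalarTower R (Localization.AtPrime p) (Localization.AtPrime q.asIdeal) :=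
    IsScalarTower.of_algebraMap_eq fun x =>
      ((IsScalarTower.algebraMap_apply R A _ x).trans
        (Localization.localRingHom_to_map _ _ _ rfl x).symm)
  exact (RingHom.flat_algebraMap_iff (R := Localization.AtPrime p)
    (S := Localization.AtPrime q.asIdeal)).trans
    (Module.flat_iff_of_isLocalization (Localization.AtPrime p) p.primeCompl _)

theorem flat_localization_iff_flatAt {R A : Type u} [CommRing R] [CommRing A] [Algebra R A] {n : ℕ}
    (φ : MvPolynomial (Fin n) R →ₐ[R] A) (hφ : Function.Surjective φ)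
    (N : Ideal (MvPolynomial (Fin n) R)) (hG : N = RingHom.ker φ.toRingHom)
    (q : PrimeSpectrum A) :
    Module.Flat R (Localization.AtPrime q.asIdeal) ↔ FlatAt N (q.asIdeal.comap φ.toRingHom) := by
  refine (flatAt_iff ((IsScalarTower.toAlgHom R A (Localization.AtPrime q.asIdeal)).comp φ) N (q.asIdeal.comap φ.toRingHom)
    (fun s hs => IsLocalization.map_units (M := q.asIdeal.primeCompl) _ ⟨φ s, hs⟩)
    (fun l => ?_) (fun p => ?_)).symm
  · obtain ⟨⟨b, s⟩, hbs⟩ := IsLocalization.surj q.asIdeal.primeCompl l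
    obtain ⟨p, rfl⟩ := hφ b
    obtain ⟨s', hs'⟩ := hφ s
    refine ⟨s', fun h => s.2 (hs' ▸ h), p, ?_⟩
    show algebraMap A _ (φ s') * l = algebraMap A _ (φ p)
    rw [hs', mul_comm]; exact hbs
  · show algebraMap A _ (φ p) = 0 ↔ _
    rw [IsLocalization.map_eq_zero_iff q.asIdeal.primeCompl]
    constructor
    · rintro ⟨s, hs⟩
      obtain ⟨s', hs'⟩ := hφ s
      refine ⟨s', fun h => s.2 (hs' ▸ h), ?_⟩
      rw [hG, RingHom.mem_ker]
      show φ (s' * p) = 0
      rw [map_mul, hs', hs]
    · rintro ⟨s, hs, hsp⟩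
      refine ⟨⟨φ s, hs⟩, ?_⟩
      have h1 : s * p ∈ RingHom.ker φ.toRingHom := hG ▸ hsp
      rw [← map_mul]
      exact h1

/-- The flat locus of a finitely presented algebra is open. -/
theorem isOpen_setOf_flat_localization (R A : Type u) [CommRing R] [CommRing A] [Algebra R A]
    [Algebra.FinitePresentation R A] :
    IsOpen {q : PrimeSpectrum A | Module.Flat R (Localization.AtPrime q.asIdeal)} := by
  obtain ⟨n, φ, hφ, ⟨G, hG⟩⟩ := Algebra.FinitePresentation.out (R := R) (A := A)
  have e : {q : PrimeSpectrum A | Module.Flat R (Localization.AtPrime q.asIdeal)} =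
      PrimeSpectrum.comap φ.toRingHom ⁻¹' {Q | FlatAt (Ideal.span (G : Set _)) Q.asIdeal} :=
    Set.ext fun q => flat_localization_iff_flatAt φ hφ _ hG q
  rw [e]
  exact (isOpen_setOf_flatAt G).preimage (PrimeSpectrum.continuous_comap φ.toRingHom)

/-- The flat locus of a morphism locally of finite presentation is open. -/
theorem isOpen_setOf_flat_stalkMap {X S : Scheme.{u}} (f : X ⟶ S) [LocallyOfFinitePresentation f] :
    IsOpen {x : X | (f.stalkMap x).hom.Flat} := by
  rw [isOpen_iff_forall_mem_open]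
  intro x hx
  obtain ⟨_, ⟨V, hV, rfl⟩, hxV, -⟩ :=
    S.isBasis_affineOpens.exists_subset_of_mem_open (Set.mem_univ (f x)) isOpen_univ
  obtain ⟨_, ⟨U, hU, rfl⟩, hxU, hUle⟩ :=
    X.isBasis_affineOpens.exists_subset_of_mem_open (show x ∈ (f ⁻¹ᵁ V : Set X) from hxV) (f ⁻¹ᵁ V).2
  let : Algebra Γ(S, V) Γ(X, U) := (f.appLE V U hUle).hom.toAlgebra
  let φ := Spec.map (CommRingCat.ofHom (algebraMap Γ(S, V) Γ(X, U)))
  have ea : φ ≫ hV.fromSpec = hU.fromSpec ≫ f := IsAffineOpen.SpecMap_appLE_fromSpec f hV hU hUle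
  haveI := hU.isOpenImmersion_fromSpec
  haveI := hV.isOpenImmersion_fromSpec
  have : Algebra.FinitePresentation Γ(S, V) Γ(X, U) :=
    H17.LocusBC.finitePresentation_of_chart f hU.fromSpec hV.fromSpec ea
  haveI := hU.isOpenImmersion_fromSpec
  haveI := hV.isOpenImmersion_fromSpec
  have key : ∀ q : PrimeSpectrum Γ(X, U), (f.stalkMap (hU.fromSpec q)).hom.Flat ↔
      Module.Flat Γ(S, V) (Localization.AtPrime q.asIdeal) := fun q =>
    (H17.LocusBC.flat_stalkMap_comp_iff hU.fromSpec f hV.fromSpec φ ea q).symm.trans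
      (flat_stalkMap_Spec_iff q)
  refine ⟨hU.fromSpec '' {q : PrimeSpectrum Γ(X, U) | Module.Flat Γ(S, V) (Localization.AtPrime q.asIdeal)}, ?_,
    hU.fromSpec.isOpenEmbedding.isOpenMap _ (isOpen_setOf_flat_localization _ _),
    hU.primeIdealOf ⟨x, hxU⟩, ?_, hU.fromSpec_primeIdealOf _⟩
  · rintro _ ⟨q, hq, rfl⟩
    exact (key q).mpr hq
  · refine (key _).mp ?_
    rw [hU.fromSpec_primeIdealOf]
    exact hx

end Groth.Agent.H8Props.FlatLocus
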