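import Mathlib.RingTheory.Flat.EquationalCriterion
import Mathlib.RingTheory.Polynomial.Basic
import Mathlib.RingTheory.Localization.AtPrime.Basic
import Mathlib.RingTheory.Filtration
import Mathlib.RingTheory.Localization.Submodule
import Mathlib.RingTheory.Localization.Ideal

/-!
# Flatness of `R[x]/N` at a prime, elementwise

`FlatAt N Q`: for every ideal `K` of `R`, `N ∩ K[x]` agrees with `K[x] * N` at `Q`.
-/

set_option autoImplicit false
set_option linter.style.haveILetI false
universe u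

open MvPolynomial

namespace Groth.Agent.H8Props.FlatLocus

variable {R : Type u} [CommRing R] {n : ℕ}

/-- Flatness of `R[x]/N` at `Q`, elementwise. -/
def FlatAt (N Q : Ideal (MvPolynomial (Fin n) R)) : Prop :=
  ∀ K : Ideal R, ∀ x ∈ N ⊓ K.map C, ∃ s ∉ Q, s * x ∈ K.map C * N

theorem FlatAt.mono {N Q Q' : Ideal (MvPolynomial (Fin n) R)} (h : Q' ≤ Q) (hQ : FlatAt N Q) :
    FlatAt N Q' := fun K x hx =>
  let ⟨s, hs, hsx⟩ := hQ K x hx
  ⟨s, fun hs' => hs (h hs'), hsx⟩

theorem exists_sum_of_mem_map_span_mul {N : Ideal (MvPolynomial (Fin n) R)} {ι : Type u} [Fintype ι]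
    (k : ι → R) {x : MvPolynomial (Fin n) R}
    (hx : x ∈ (Ideal.span (Set.range k)).map C * N) :
    ∃ m : ι → MvPolynomial (Fin n) R, (∀ i, m i ∈ N) ∧ x = ∑ i, C (k i) * m i := by
  classical
  refine Submodule.mul_induction_on hx (fun r hr y hy => ?_) ?_
  · rw [Ideal.map_span, ← Set.range_comp, Ideal.span, Submodule.mem_span_range_iff_exists_fun] at hr
    obtain ⟨c, rfl⟩ := hr
    refine ⟨fun i => c i * y, fun i => N.mul_mem_left _ hy, ?_⟩
    rw [Finset.sum_mul]
    exact Finset.sum_congr rfl fun i _ => by simp only [Function.comp_apply, smul_eq_mul]; ring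
  · rintro a b ⟨m, hm, rfl⟩ ⟨m', hm', rfl⟩
    exact ⟨m + m', fun i => N.add_mem (hm i) (hm' i), by
      simp only [Pi.add_apply, mul_add, Finset.sum_add_distrib]⟩

/-- `FlatAt` is flatness of the localised quotient. -/
theorem flatAt_iff {L : Type u} [CommRing L] [Algebra R L] (φ : MvPolynomial (Fin n) R →ₐ[R] L)
    (N Q : Ideal (MvPolynomial (Fin n) R)) [hQ : Q.IsPrime]
    (hu : ∀ s, s ∉ Q → IsUnit (φ s)) (hs : ∀ l, ∃ s ∉ Q, ∃ p, φ s * l = φ p)
    (hk : ∀ p, φ p = 0 ↔ ∃ s ∉ Q, s * p ∈ N) :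
    FlatAt N Q ↔ Module.Flat R L := by
  classical
  have hcommon : ∀ {ι : Type u} (_ : Fintype ι) (l : ι → L),
      ∃ s ∉ Q, ∃ p : ι → MvPolynomial (Fin n) R, ∀ i, φ s * l i = φ (p i) := by
    intro ι _ l
    choose s hsQ p hp using fun i => hs (l i)
    refine ⟨∏ i, s i, fun h => ?_, fun i => (∏ j ∈ Finset.univ.erase i, s j) * p i, fun i => ?_⟩
    · obtain ⟨i, -, hi⟩ := hQ.prod_mem_iff.mp h
      exact hsQ i hi
    · rw [← Finset.prod_erase_mul _ _ (Finset.mem_univ i), map_mul, map_mul, mul_assoc, hp]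
  constructor
  · intro hflat
    refine Module.Flat.of_forall_isTrivialRelation fun {l k y} hrel => ?_
    let y' : ULift.{u} (Fin l) → L := fun i => y i.down
    obtain ⟨s, hsQ, p, hp⟩ := hcommon inferInstance y'
    let k' : ULift.{u} (Fin l) → R := fun i => k i.down
    let x := ∑ i, C (k' i) * p i
    have hx0 : φ x = 0 := by
      simp only [x, map_sum, map_mul, ← algebraMap_eq, AlgHom.commutes, ← hp]
      have : ∑ i : ULift.{u} (Fin l), k i.down • y i.down = 0 := by
        rw [← hrel]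
        exact Fintype.sum_equiv Equiv.ulift _ _ fun _ => rfl
      simp only [Algebra.smul_def] at this
      rw [← mul_zero (φ s), ← this, Finset.mul_sum]
      exact Finset.sum_congr rfl fun i _ => by simp only [k', y']; ring
    obtain ⟨t, htQ, ht⟩ := (hk x).mp hx0
    obtain ⟨w, hwQ, hw⟩ := hflat (Ideal.span (Set.range k')) (t * x)
      ⟨ht, Ideal.mul_mem_left _ _ (sum_mem fun i _ =>
        Ideal.mul_mem_right _ _ (Ideal.mem_map_of_mem _ (Ideal.subset_span ⟨i, rfl⟩)))⟩
    obtain ⟨m, hm, hsum⟩ := exists_sum_of_mem_map_span_mul k' hw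
    let z : Fin l → MvPolynomial (Fin n) R := fun i => w * t * p ⟨i⟩ - m ⟨i⟩
    have hz : ∑ i, k i • z i = 0 := by
      calc ∑ i, k i • z i = ∑ i : ULift.{u} (Fin l), C (k' i) * (w * t * p i - m i) :=
            (Fintype.sum_equiv Equiv.ulift _ _ fun i => by
              simp only [z, k', MvPolynomial.smul_eq_C_mul]; rfl).symm
        _ = w * (t * x) - ∑ i, C (k' i) * m i := by
            simp only [mul_sub, Finset.sum_sub_distrib, x, Finset.mul_sum]
            congr 1
            exact Finset.sum_congr rfl fun i _ => by ring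
        _ = 0 := by rw [hsum, sub_self]
    obtain ⟨q, a, v, hv, ha⟩ := Module.Flat.isTrivialRelation_of_sum_smul_eq_zero (M := MvPolynomial (Fin n) R) hz
    obtain ⟨e, he⟩ := hu _ (Ideal.IsPrime.mul_notMem hQ (Ideal.IsPrime.mul_notMem hQ hwQ htQ) hsQ)
    refine ⟨q, a, fun j => ↑e⁻¹ * φ (v j), fun i => ?_, ha⟩
    have h1 : φ (z i) = (e : L) * y i := by
      rw [he, map_sub, (hk (m ⟨i⟩)).mpr ⟨1, fun h => hQ.ne_top ((Ideal.eq_top_iff_one _).mpr h),
        by rw [one_mul]; exact hm _⟩, sub_zero]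
      simp only [map_mul, ← hp, y', mul_assoc]
    calc y i = ↑e⁻¹ * φ (z i) := by rw [h1, Units.inv_mul_cancel_left]
      _ = ∑ j, a i j • (↑e⁻¹ * φ (v j)) := by
          rw [hv i, map_sum, Finset.mul_sum]
          exact Finset.sum_congr rfl fun j _ => by rw [map_smul, mul_smul_comm]
  · intro _ K x hx
    let l := x.support.card
    let μ : Fin l → Fin n →₀ ℕ := fun i => (x.support.equivFin.symm i).1
    have hsum : ∑ i, coeff (μ i) x • monomial (μ i) (1 : R) = x := by
      conv_rhs => rw [x.as_sum, ← Finset.sum_coe_sort]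
      exact Fintype.sum_equiv x.support.equivFin.symm _ _ fun i => by
        simp [μ, smul_monomial]
    have hrel : ∑ i, coeff (μ i) x • φ (monomial (μ i) 1) = 0 := by
      rw [← (hk x).mpr ⟨1, fun h => hQ.ne_top ((Ideal.eq_top_iff_one _).mpr h), by
        rw [one_mul]; exact hx.1⟩]
      conv_rhs => rw [← hsum, map_sum]
      exact Finset.sum_congr rfl fun i _ => (map_smul φ _ _).symm
    obtain ⟨q, a, y, hy, ha⟩ := Module.Flat.isTrivialRelation_of_sum_smul_eq_zero (M := L) hrel
    obtain ⟨s, hsQ, p, hp⟩ := hcommon (ι := ULift.{u} (Fin q)) inferInstance (fun j => y j.down)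
    let d : Fin l → MvPolynomial (Fin n) R := fun i =>
      s * monomial (μ i) 1 - ∑ j, a i j • p ⟨j⟩
    have hd : ∀ i, ∃ t ∉ Q, t * d i ∈ N := fun i => (hk _).mp (by
      simp only [d, map_sub, map_mul, hy i, map_sum, map_smul, ← hp, Finset.mul_sum,
        mul_smul_comm, sub_self])
    choose t htQ ht using hd
    refine ⟨(∏ i, t i) * s, Ideal.IsPrime.mul_notMem hQ (fun h => ?_) hsQ, ?_⟩
    · obtain ⟨i, -, hi⟩ := hQ.prod_mem_iff.mp h
      exact htQ i hi
    have hsx : s * x = ∑ i, coeff (μ i) x • d i := by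
      simp only [d, smul_sub, Finset.sum_sub_distrib, Finset.smul_sum, smul_smul]
      rw [Finset.sum_comm]
      simp only [← Finset.sum_smul, ha, zero_smul, Finset.sum_const_zero, sub_zero]
      conv_lhs => rw [← hsum]
      simp only [Finset.mul_sum, mul_smul_comm]
    rw [mul_assoc, hsx, Finset.mul_sum]
    refine sum_mem fun i _ => ?_
    rw [← Finset.prod_erase_mul _ _ (Finset.mem_univ i), mul_assoc, mul_smul_comm,
      MvPolynomial.smul_eq_C_mul, mul_left_comm]
    exact Ideal.mul_mem_mul (Ideal.mem_map_of_mem _ (mem_map_C_iff.1 hx.2 _))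
      (Ideal.mul_mem_left _ _ (ht i))

/-- From flatness relative to `J + (a)` to flatness relative to `J`, at a prime containing `a`. -/
theorem flatAt_step [IsNoetherianRing R] {N Q : Ideal (MvPolynomial (Fin n) R)} [Q.IsPrime]
    (J : Ideal R) (a : R) (ha : C a ∈ Q)
    (H : ∀ K : Ideal R, J ⊔ Ideal.span {a} ≤ K → ∀ x ∈ N ⊓ K.map C, ∃ s ∉ Q, s * x ∈ K.map C * N)
    (K : Ideal R) (hJK : J ≤ K) (x : MvPolynomial (Fin n) R) (hx : x ∈ N ⊓ K.map C) :
    ∃ s ∉ Q, s * x ∈ K.map C * N := by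
  have hpow : ∀ (m : ℕ) (K : Ideal R), J ≤ K → a ^ m ∈ K → ∀ x ∈ N ⊓ K.map C,
      ∃ s ∉ Q, s * x ∈ K.map C * N := by
    intro m
    induction m with
    | zero =>
      intro K _ h1 x hx
      refine H K ?_ x hx
      rw [(Ideal.eq_top_iff_one K).2 (by simpa using h1)]
      exact le_top
    | succ m ih =>
      intro K hJK hm x hx
      obtain ⟨s, hs, hsx⟩ := H (K ⊔ Ideal.span {a}) (sup_le_sup_right hJK _) x
        ⟨hx.1, Ideal.map_mono le_sup_left hx.2⟩
      rw [Ideal.map_sup, Ideal.map_span, Set.image_singleton, Ideal.sup_mul, Submodule.mem_sup]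
        at hsx
      obtain ⟨u, hu, v, hv, huv⟩ := hsx
      obtain ⟨y, hy, rfl⟩ := Ideal.mem_span_singleton_mul.1 hv
      have hay : C a * y ∈ K.map C := by
        rw [show C a * y = s * x - u from eq_sub_of_add_eq' huv]
        exact sub_mem (Ideal.mul_mem_left _ _ hx.2) (Ideal.mul_le_left (I := K.map C) (J := N) hu)
      let K' : Ideal R := Submodule.comap (LinearMap.lsmul R R a) K
      obtain ⟨t, ht, hty⟩ := ih K' (fun z hz => K.mul_mem_left _ (hJK hz))
        (show a * a ^ m ∈ K by rwa [← pow_succ']) y ⟨hy, mem_map_C_iff.2 fun μ => by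
          have := mem_map_C_iff.1 hay μ
          rwa [coeff_C_mul] at this⟩
      have hle : Ideal.span {C a} * K'.map C ≤ (K.map C : Ideal (MvPolynomial (Fin n) R)) := by
        rw [← Set.image_singleton, ← Ideal.map_span, ← Ideal.map_mul]
        refine Ideal.map_mono (Ideal.mul_le.2 fun r hr s hs => ?_)
        obtain ⟨b, rfl⟩ := Ideal.mem_span_singleton'.1 hr
        rw [mul_assoc]
        exact K.mul_mem_left _ hs
      refine ⟨t * s, Ideal.IsPrime.mul_notMem ‹_› ht hs, ?_⟩
      rw [mul_assoc, ← huv, mul_add, mul_left_comm t (C a)]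
      refine add_mem (Ideal.mul_mem_left _ _ hu) ?_
      have := Ideal.mul_mem_mul (Ideal.mem_span_singleton_self (C a)) hty
      rw [← mul_assoc (Ideal.span {C a})] at this
      exact Ideal.mul_mono hle le_rfl this
  let L := Localization.AtPrime Q
  let ι := algebraMap (MvPolynomial (Fin n) R) L
  haveI : IsNoetherianRing L := IsLocalization.isNoetherianRing Q.primeCompl L inferInstance
  let T := (K.map C * N).map ι
  have hi : ∀ i : ℕ, Ideal.Quotient.mk T (ι x) ∈
      Ideal.span {ι (C a)} ^ i • (⊤ : Submodule L (L ⧸ T)) := by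
    intro i
    obtain ⟨s, hs, hsx⟩ := hpow i (K ⊔ Ideal.span {a ^ i}) (hJK.trans le_sup_left)
      (Submodule.mem_sup_right (Ideal.mem_span_singleton_self _)) x
      ⟨hx.1, Ideal.map_mono le_sup_left hx.2⟩
    rw [Ideal.map_sup, Ideal.map_span, Set.image_singleton, Ideal.sup_mul, Submodule.mem_sup] at hsx
    obtain ⟨u, hu, v, hv, huv⟩ := hsx
    obtain ⟨y, -, rfl⟩ := Ideal.mem_span_singleton_mul.1 hv
    obtain ⟨e, he⟩ := IsLocalization.map_units (M := Q.primeCompl) L ⟨s, hs⟩
    have hsx' : (e : L) * ι x = ι u + ι (C a) ^ i * ι y := by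
      rw [he]; simp only [ι, ← map_mul, ← map_pow, ← map_add, ← huv]
    have : Ideal.Quotient.mk T (ι x) = ι (C a) ^ i • Ideal.Quotient.mk T (↑e⁻¹ * ι y) := by
      show _ = Ideal.Quotient.mk T (ι (C a) ^ i * (↑e⁻¹ * ι y))
      rw [Ideal.Quotient.eq,
        show ι x - ι (C a) ^ i * (↑e⁻¹ * ι y) = ↑e⁻¹ * ι u by
          rw [← Units.inv_mul_cancel_left e (ι x), hsx']; ring]
      exact Ideal.mul_mem_left _ _ (Ideal.mem_map_of_mem _ hu)
    rw [this, Ideal.span_singleton_pow]
    exact Submodule.smul_mem_smul (Ideal.mem_span_singleton_self _) trivial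
  have hzero : Ideal.Quotient.mk T (ι x) = 0 := by
    have h1 := Ideal.iInf_pow_smul_eq_bot_of_isLocalRing (R := L) (M := L ⧸ T)
      (Ideal.span {ι (C a)}) (fun htop => by
        refine (IsLocalRing.maximalIdeal.isMaximal L).ne_top (top_unique (htop.ge.trans ?_))
        rw [Ideal.span_singleton_le_iff_mem]
        exact (IsLocalization.AtPrime.to_map_mem_maximal_iff L Q (C a)).mpr ha)
    exact (Submodule.mem_bot L).mp (h1 ▸ (Submodule.mem_iInf _).mpr hi)
  rw [Ideal.Quotient.eq_zero_iff_mem] at hzero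
  obtain ⟨s, hs, hsx⟩ := (IsLocalization.algebraMap_mem_map_algebraMap_iff Q.primeCompl L _ _).mp hzero
  exact ⟨s, hs, hsx⟩

/-- Flatness at a prime from flatness relative to an ideal contained in it. -/
theorem flatAt_of_forall_ge [IsNoetherianRing R] {N Q : Ideal (MvPolynomial (Fin n) R)} [Q.IsPrime]
    (I : Ideal R) (hI : I ≤ Q.comap C)
    (H : ∀ K : Ideal R, I ≤ K → ∀ x ∈ N ⊓ K.map C, ∃ s ∉ Q, s * x ∈ K.map C * N) :
    FlatAt N Q := by
  classical
  obtain ⟨T, hT⟩ := IsNoetherian.noetherian I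
  have key : ∀ U : Finset R, U ⊆ T → ∀ K : Ideal R, Ideal.span ((T : Set R) \ ↑U) ≤ K →
      ∀ x ∈ N ⊓ K.map C, ∃ s ∉ Q, s * x ∈ K.map C * N := by
    intro U
    induction U using Finset.induction_on with
    | empty =>
      intro _ K hK
      rw [Finset.coe_empty, Set.sdiff_empty] at hK
      exact H K (hT ▸ hK)
    | insert a U haU ih =>
      intro hU K hK
      have haT : a ∈ T := hU (Finset.mem_insert_self a U)
      refine flatAt_step (Ideal.span ((T : Set R) \ ↑(insert a U))) a
        (hI (hT ▸ Ideal.subset_span haT)) (fun K' hK' => ?_) K hK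
      refine ih (fun b hb => hU (Finset.mem_insert_of_mem hb)) K' (le_trans ?_ hK')
      rw [← Ideal.span_union]
      refine Ideal.span_mono fun b hb => ?_
      by_cases hba : b = a
      · exact Or.inr hba
      · exact Or.inl ⟨hb.1, fun h => (Finset.mem_insert.mp h).elim hba hb.2⟩
  intro K
  refine key T subset_rfl K ?_
  rw [Set.sdiff_self, Ideal.span_empty]
  exact bot_le

end Groth.Agent.H8Props.FlatLocus
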