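import Groth.Agent.H8Props.FlatLocus.Criterion
import Groth.Agent.H13Flat.Descend
import Groth.Agent.H28Top.Spectral
import Mathlib.RingTheory.Spectrum.Prime.Topology

/-!
# Openness of the flat locus of a finitely presented algebra

Around a point where `A[x]/(G)` is flat there is a constructible set of such points, by
approximation with finitely generated subrings; the set is stable under generization.
-/

set_option autoImplicit false
set_option linter.style.haveILetI false
universe u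

open MvPolynomial

namespace Groth.Agent.H8Props.FlatLocus

open H13Flat

variable {A : Type u} [CommRing A] {n : ℕ}

/-- Flatness away from `a` up to the factor `t`. -/
theorem exists_pow_mul_mem {R₀ R : Type u} [CommRing R₀] [CommRing R] (ι : R₀ →+* R) {I : Ideal R₀}
    {a : R₀} {N₀ : Ideal (MvPolynomial (Fin n) R₀)} {N : Ideal (MvPolynomial (Fin n) R)}
    (ha : ∀ {m : ℕ} (q : Fin m → MvPolynomial (Fin n) R₀), (∀ i, q i ∈ N₀) →
      ∃ (k : ℕ) (S : Finset (Fin n →₀ ℕ)) (θ : (Fin n →₀ ℕ) → MvPolynomial (Fin n) R₀),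
        (∀ μ, θ μ ∈ N₀) ∧
          ∀ i, C (a ^ k) * q i - ∑ μ ∈ S, C (coeff μ (q i)) * θ μ ∈ N₀ ⊓ I.map C)
    (hle : ∀ y ∈ N₀, MvPolynomial.map ι y ∈ N)
    (hspan : ∀ x ∈ N, x ∈ Submodule.span R
      (MvPolynomial.map ι '' (N₀ : Set (MvPolynomial (Fin n) R₀))))
    (t : MvPolynomial (Fin n) R) (K : Ideal R)
    (hJ : ∀ y ∈ N₀ ⊓ I.map C, t * MvPolynomial.map ι y ∈ K.map C * N)
    (x : MvPolynomial (Fin n) R) (hx : x ∈ N ⊓ K.map C) :
    ∃ k : ℕ, t * C (ι a ^ k) * x ∈ K.map C * N := by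
  obtain ⟨m, c, g, hsum⟩ := (Submodule.mem_span_set'
    (s := MvPolynomial.map ι '' (N₀ : Set (MvPolynomial (Fin n) R₀)))).1 (hspan x hx.1)
  choose q hq hqg using fun i => (g i).2
  obtain ⟨k, S, θ, hθ, hd⟩ := ha q hq
  refine ⟨k, ?_⟩
  have hx' : x = ∑ i, c i • MvPolynomial.map ι (q i) := by simp only [hqg]; exact hsum.symm
  have key : C (ι a ^ k) * x =
      ∑ i, C (c i) * MvPolynomial.map ι (C (a ^ k) * q i - ∑ μ ∈ S, C (coeff μ (q i)) * θ μ) +
      ∑ μ ∈ S, C (coeff μ x) * MvPolynomial.map ι (θ μ) := by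
    have h1 : ∀ μ, coeff μ x = ∑ i, c i * ι (coeff μ (q i)) := fun μ => by
      rw [hx', coeff_sum]
      refine Finset.sum_congr rfl fun i _ => ?_
      rw [coeff_smul, coeff_map, smul_eq_mul]
    simp only [map_sub, map_mul, map_sum, map_C, mul_sub, Finset.mul_sum, Finset.sum_sub_distrib,
      h1, Finset.sum_mul, mul_assoc]
    rw [Finset.sum_comm (s := S), sub_add_cancel]
    conv_lhs => rw [hx', Finset.mul_sum]
    refine Finset.sum_congr rfl fun i _ => ?_
    simp only [smul_eq_C_mul, map_pow]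
    ring
  rw [mul_assoc, key, mul_add, Finset.mul_sum, Finset.mul_sum]
  refine add_mem (sum_mem fun i _ => ?_) (sum_mem fun μ _ => ?_)
  · rw [mul_left_comm]
    exact Ideal.mul_mem_left _ _ (hJ _ (hd i))
  · rw [mul_left_comm]
    exact Ideal.mul_mem_mul (Ideal.mem_map_of_mem _ (mem_map_C_iff.1 hx.2 μ))
      (Ideal.mul_mem_left _ _ (hle _ (hθ μ)))

theorem exists_preimage {R : Subalgebra ℤ A} (p : MvPolynomial (Fin n) A)
    (hp : (p.coeffs : Set A) ⊆ R) : ∃ p' : MvPolynomial (Fin n) R, incl R p' = p :=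
  MvPolynomial.mem_range_map_iff_coeffs_subset.2 fun a ha => ⟨⟨a, hp (Finset.mem_coe.2 ha)⟩, rfl⟩

theorem mem_adjoin_coeffs (T : Finset (MvPolynomial (Fin n) A)) [DecidableEq A]
    {p : MvPolynomial (Fin n) A} (hp : p ∈ T) :
    (p.coeffs : Set A) ⊆ Algebra.adjoin ℤ ((T.biUnion MvPolynomial.coeffs : Finset A) : Set A) :=
  fun _ ha => Algebra.subset_adjoin (Finset.mem_coe.2 (Finset.mem_biUnion.2 ⟨p, hp, ha⟩))

/-- Around a point of flatness there is a constructible set of points of flatness. -/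
theorem exists_isConstructible_subset (G : Finset (MvPolynomial (Fin n) A))
    (Q : PrimeSpectrum (MvPolynomial (Fin n) A))
    (hQ : FlatAt (Ideal.span (G : Set (MvPolynomial (Fin n) A))) Q.asIdeal) :
    ∃ E : Set (PrimeSpectrum (MvPolynomial (Fin n) A)), Topology.IsConstructible E ∧ Q ∈ E ∧
      ∀ Q' ∈ E, FlatAt (Ideal.span (G : Set (MvPolynomial (Fin n) A))) Q'.asIdeal := by
  classical
  let GS : Set (MvPolynomial (Fin n) A) := G
  let R₀ := Algebra.adjoin ℤ ((G.biUnion MvPolynomial.coeffs : Finset A) : Set A)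
  have hG : GS ⊆ Set.range (incl R₀) := fun p hp => exists_preimage p (mem_adjoin_coeffs G hp)
  have := isNoetherianRing_stage (A := A) (Subalgebra.fg_adjoin_finset (G.biUnion MvPolynomial.coeffs))
  let I : Ideal R₀ := (Q.asIdeal.comap (MvPolynomial.C : A →+* _)).comap R₀.val.toRingHom
  obtain ⟨a, haI, ha⟩ := exists_generic_correction I (stageIdeal GS R₀)
  obtain ⟨Y, hY⟩ := IsNoetherian.noetherian (stageIdeal GS R₀ ⊓ I.map C)
  have hNle : (stageIdeal GS R₀).map (incl R₀) ≤ Ideal.span GS := by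
    rw [stageIdeal, Ideal.map_span]
    exact Ideal.span_mono (Set.image_preimage_subset _ _)
  have hYs : ∀ y ∈ Y, ∃ s ∉ Q.asIdeal,
      s * incl R₀ y ∈ (I.map R₀.val.toRingHom).map C * Ideal.span GS := fun y hy => by
    have hy' : y ∈ stageIdeal GS R₀ ⊓ I.map C := hY ▸ Submodule.subset_span hy
    refine hQ _ _ ⟨hNle (Ideal.mem_map_of_mem _ hy'.1), mem_map_C_iff.2 fun μ => ?_⟩
    rw [coeff_map]
    exact Ideal.mem_map_of_mem _ (mem_map_C_iff.1 hy'.2 μ)
  choose s hsQ hs using hYs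
  let t := ∏ y ∈ Y.attach, s y.1 y.2
  have htQ : t ∉ Q.asIdeal := fun h => by
    obtain ⟨y, -, hy⟩ := Q.isPrime.prod_mem_iff.mp h
    exact hsQ y.1 y.2 hy
  have ht : ∀ y ∈ Y, t * incl R₀ y ∈ (I.map R₀.val.toRingHom).map C * Ideal.span GS := fun y hy => by
    rw [show t = _ from (Finset.prod_erase_mul _ _ (Finset.mem_attach Y ⟨y, hy⟩)).symm, mul_assoc]
    exact Ideal.mul_mem_left _ _ (hs y hy)
  let R₁ := R₀ ⊔ Algebra.adjoin ℤ (t.coeffs : Set A)
  have h₁ : R₁.FG := (Subalgebra.fg_adjoin_finset _).sup (Subalgebra.fg_adjoin_finset _)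
  obtain ⟨t₁, ht₁⟩ := exists_preimage (R := R₁) t
    (fun x hx => (le_sup_right : _ ≤ R₁) (Algebra.subset_adjoin hx))
  have h01 : R₀ ≤ R₁ := le_sup_left
  let sset : Set (MvPolynomial (Fin n) R₀) :=
    Set.image2 (· * ·) (C '' (I : Set R₀)) (incl R₀ ⁻¹' GS)
  have hsset : Ideal.span (incl R₀ '' sset) =
      (I.map R₀.val.toRingHom).map C * Ideal.span GS := by
    rw [Set.image_image2, Ideal.map_map, Ideal.map, Ideal.span_mul_span']
    congr 1
    ext z
    simp only [Set.mem_image2, Set.mem_mul, Set.mem_image, map_mul, SetLike.mem_coe]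
    constructor
    · rintro ⟨_, ⟨c, hc, rfl⟩, g, hg, rfl⟩
      exact ⟨_, ⟨c, hc, rfl⟩, _, hg, by simp⟩
    · rintro ⟨_, ⟨c, hc, rfl⟩, g, hg, rfl⟩
      obtain ⟨g', rfl⟩ := hG hg
      exact ⟨_, ⟨c, hc, rfl⟩, g', hg, by simp⟩
  obtain ⟨R₂, h12, h₂, hall⟩ := exists_stage_mem_span_forall h₁ (H13Flat.trans h01 '' sset)
    (Y.image fun y => t₁ * H13Flat.trans h01 y) (fun x hx => by
      obtain ⟨y, hy, rfl⟩ := Finset.mem_image.mp hx
      rw [Set.image_image, map_mul, incl_trans, ht₁]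
      simp only [incl_trans]
      rw [hsset]
      exact ht y hy)
  obtain ⟨T, hT⟩ := IsNoetherian.noetherian I
  let E : Set (PrimeSpectrum (MvPolynomial (Fin n) A)) :=
    (PrimeSpectrum.basicOpen (t * C (a : A)) : Set _) ∩
      ⋂ c ∈ T, (PrimeSpectrum.basicOpen (C (c : A) : MvPolynomial (Fin n) A) : Set _)ᶜ
  refine ⟨E, PrimeSpectrum.isConstructible_basicOpen.inter (Topology.IsConstructible.biInter
    T.finite_toSet fun c _ => PrimeSpectrum.isConstructible_basicOpen.compl), ⟨?_, ?_⟩, ?_⟩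
  · exact fun h => (Q.isPrime.mem_or_mem h).elim htQ haI
  · simp only [Set.mem_iInter]
    exact fun c hc h => h (hT ▸ Ideal.subset_span hc : c ∈ I)
  rintro Q' ⟨hQ't, hQ'I⟩ K x hx
  simp only [Set.mem_iInter] at hQ'I
  obtain ⟨c, hc⟩ := Submodule.mem_span_finset.1 hx.1
  let R := R₂ ⊔ Algebra.adjoin ℤ ((x.coeffs ∪ G.biUnion fun g => (c g).coeffs : Finset A) : Set A)
  have h2 : R₂ ≤ R := le_sup_left
  have hR : R.FG := h₂.sup (Subalgebra.fg_adjoin_finset _)
  have := isNoetherianRing_stage (A := A) hR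
  obtain ⟨x', hx'⟩ := exists_preimage (R := R) x fun b hb =>
    (le_sup_right : _ ≤ R) (Algebra.subset_adjoin (Finset.mem_coe.2 (Finset.mem_union_left _ hb)))
  have hxN : x' ∈ stageIdeal GS R := by
    have hcR : ∀ g ∈ G, ∃ c' : MvPolynomial (Fin n) R, incl R c' = c g := fun g hg =>
      exists_preimage _ fun b hb => (le_sup_right : _ ≤ R) (Algebra.subset_adjoin (Finset.mem_coe.2
        (Finset.mem_union_right _ (Finset.mem_biUnion.2 ⟨g, hg, hb⟩))))
    choose c' hc' using hcR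
    have hgR : ∀ g ∈ G, ∃ g' : MvPolynomial (Fin n) R, incl R g' = g := fun g hg => by
      obtain ⟨g₀, hg₀⟩ := hG hg
      exact ⟨H13Flat.trans (h01.trans (h12.trans h2)) g₀, by rw [incl_trans, hg₀]⟩
    choose g' hg' using hgR
    rw [show x' = ∑ g ∈ G.attach, c' g.1 g.2 * g' g.1 g.2 from incl_injective R (by
      simp only [map_sum, map_mul, hc', hg', hx']
      rw [← hc.2, ← Finset.sum_attach]
      rfl)]
    refine sum_mem fun g _ => Ideal.mul_mem_left _ _ (Ideal.subset_span ?_)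
    show incl R (g' g.1 g.2) ∈ GS
    rw [hg']
    exact g.2
  let K' : Ideal R := K.comap R.val.toRingHom
  have hxK : x' ∈ K'.map C := mem_map_C_iff.2 fun μ => by
    have := mem_map_C_iff.1 hx.2 μ
    rwa [← hx', coeff_map] at this
  let Q'' : Ideal (MvPolynomial (Fin n) R) := Q'.asIdeal.comap (incl R)
  have h0R : R₀ ≤ R := h01.trans (h12.trans h2)
  have hflat : FlatAt (stageIdeal GS R) Q'' := by
    refine flatAt_of_forall_ge (I.map (Subalgebra.inclusion h0R).toRingHom) ?_ fun K'' hK'' z hz => ?_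
    · rw [← hT, Ideal.map_span, Ideal.span_le]
      rintro _ ⟨b, hb, rfl⟩
      show incl R (C (Subalgebra.inclusion h0R b)) ∈ Q'.asIdeal
      rw [incl, map_C]
      by_contra hn
      exact hQ'I b hb hn
    have hJ : ∀ y ∈ stageIdeal GS R₀ ⊓ I.map C, H13Flat.trans (h12.trans h2) t₁ * H13Flat.trans h0R y ∈
        K''.map C * stageIdeal GS R := fun y hy => by
      rw [← hY] at hy
      induction hy using Submodule.span_induction with
      | mem w hw =>
        have h3 := hall R h2 _ (Finset.mem_image_of_mem _ hw)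
        rw [map_mul, trans_trans, Set.image_image] at h3
        refine (Ideal.span_le.2 ?_) h3
        rintro _ ⟨_, ⟨_, ⟨b, hb, rfl⟩, g, hg, rfl⟩, rfl⟩
        show H13Flat.trans _ (H13Flat.trans h01 (C b * g)) ∈ _
        rw [trans_trans, map_mul]
        refine Ideal.mul_mem_mul ?_ (trans_mem_stageIdeal h0R (Ideal.subset_span hg))
        rw [H13Flat.trans, map_C]
        exact Ideal.mem_map_of_mem _ (hK'' (Ideal.mem_map_of_mem _ hb))
      | zero => simp
      | add b d _ _ hb hd => rw [map_add, mul_add]; exact add_mem hb hd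
      | smul b d _ hd => rw [smul_eq_mul, map_mul, mul_left_comm]; exact Ideal.mul_mem_left _ _ hd
    obtain ⟨k, hk⟩ := exists_pow_mul_mem (Subalgebra.inclusion h0R).toRingHom ha
      (fun y hy => trans_mem_stageIdeal h0R hy) (fun z hz => mem_span_trans_image h0R hG hz)
      (H13Flat.trans (h12.trans h2) t₁) K'' hJ z hz
    refine ⟨_, ?_, hk⟩
    show incl R (H13Flat.trans (h12.trans h2) t₁ * C (Subalgebra.inclusion h0R a ^ k)) ∉ Q'.asIdeal
    rw [map_mul, incl_trans, ht₁, incl, map_C, map_pow, map_pow]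
    exact fun h => (Q'.isPrime.mem_or_mem h).elim
      (fun h => hQ't (Q'.asIdeal.mul_mem_right _ h))
      (fun h => hQ't (Q'.asIdeal.mul_mem_left _ (Q'.isPrime.mem_of_pow_mem k h)))
  obtain ⟨s', hs', hsx⟩ := hflat K' x' ⟨hxN, hxK⟩
  refine ⟨incl R s', hs', ?_⟩
  rw [← hx', ← map_mul]
  have hle : (K'.map C * stageIdeal GS R).map (incl R) ≤ K.map C * Ideal.span GS := by
    rw [Ideal.map_mul, stageIdeal, Ideal.map_span (incl R), Ideal.map_map]
    refine Ideal.mul_mono (Ideal.map_le_iff_le_comap.2 fun b hb => ?_)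
      (Ideal.span_mono (Set.image_preimage_subset _ _))
    rw [Ideal.mem_comap, RingHom.comp_apply, incl, map_C]
    exact Ideal.mem_map_of_mem _ hb
  exact hle (Ideal.mem_map_of_mem _ hsx)

open Topology in
/-- The flat locus of `A[x]/(G)` is open. -/
theorem isOpen_setOf_flatAt (G : Finset (MvPolynomial (Fin n) A)) :
    IsOpen {Q : PrimeSpectrum (MvPolynomial (Fin n) A) |
      FlatAt (Ideal.span (G : Set (MvPolynomial (Fin n) A))) Q.asIdeal} := by
  rw [← isClosed_compl_iff, ← closure_subset_iff_isClosed]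
  intro Q hQ
  have hE : IsClosed[constructibleTopology _] {Q : PrimeSpectrum (MvPolynomial (Fin n) A) |
      FlatAt (Ideal.span (G : Set (MvPolynomial (Fin n) A))) Q.asIdeal}ᶜ := by
    refine @IsOpen.isClosed_compl _ (constructibleTopology _) _
      ((@isOpen_iff_forall_mem_open _ (constructibleTopology _) _).2 fun Q hQ => ?_)
    obtain ⟨E, hE, hQE, hEsub⟩ := exists_isConstructible_subset G Q hQ
    exact ⟨E, hEsub, H28Top.isOpen_constr_of_isConstructible hE, hQE⟩
  obtain ⟨e, he, hsp⟩ := H28Top.exists_specializes_of_mem_closure hE hQ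
  exact fun hflat => he (hflat.mono ((PrimeSpectrum.le_iff_specializes _ _).mpr hsp))

end Groth.Agent.H8Props.FlatLocus
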